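import Cfsg.Agent.H728.Ext.A2

/-!
# Product characters and automorphisms (helper728, S4832, EXT-E7)

`J` = all nodes but `j`, `K = {k₀, k₁}` a component of type `A_2`.

* `eq_one_of_perm` : an element of `W_J` which permutes the simple roots of `J` is trivial;
* `two_of_A2` : the product character `ψ` on `M_J` satisfies `ψ ∘ β ∘ g⁻¹ ≠ ψ` for all representatives `g` of the elements
  permuting the simple roots of `J`, if `β` fixes the root groups and `θ` (on `M_K`) is not fixed by `β ∘ t` for `t ∈ T`;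
* `notFix_of_tau` : the elements `β ∘ t`, `β` with the field automorphism `τ ≠ 1`.
-/

set_option autoImplicit false
set_option linter.unusedSectionVars false

open scoped ComplexConjugate
open Cfsg

namespace Cfsg.Agent.H728.Ext

open Cfsg.Agent.H53.HC Cfsg.Agent.Characters
open CoxeterSystem Cfsg.Agent.ChevalleyStructure.CoxeterGeom Cfsg.Agent.Tits.Roots Cfsg.Agent.Tits.Core
  Cfsg.Agent.Tits.Exchange Cfsg.Agent.Nodes.Reps Cfsg.Agent.Nodes.BNOf Cfsg.Agent.Nodes.StabComb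
  Cfsg.Agent.Nodes.Bruhat Cfsg.Agent.Nodes.OppDec Cfsg.Agent.Nodes.LeviDec
open Cfsg.Agent.KFacts.RgdAut Cfsg.Agent.KFacts.RgdDiag Cfsg.Agent.KFacts.RgdField Cfsg.Agent.KFacts.RgdTau

variable {I W Y : Type*} [Fintype I] [DecidableEq I] [Group W] [Group Y] {M : CoxeterMatrix I}
  {cs : CoxeterSystem M W} {A : I → I → ℤ} {h : IsCartan M A} {p : ℕ} {T : Subgroup Y} {n : I → Y}
  {X : (I → ℤ) → Subgroup Y}

/-- an element of `W_J` which permutes the simple roots of `J` (all nodes but `j`) is trivial -/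
theorem eq_one_of_perm [Finite W] {J : Set I} {j : I} (hJ : ∀ i, i ∈ J ↔ i ≠ j) {w : W} (hw : Perm cs h J w)
    (hwJ : w ∈ WJ cs J) : w = 1 := by
  refine eq_one_of_nonneg (cs := cs) (h := h) fun i => ?_
  by_cases hi : i = j
  · subst hi
    have h1 : rep cs h w (sr i) i = 1 := by
      rw [Cfsg.Agent.Tits.RootComb.rep_apply_of_mem cs h hwJ (sr i) ((not_congr (hJ i)).2 (by simp)), sr_self]
    rcases ((isRoot_sr cs h i).act w).pos_or_neg with h4 | h4
    · exact h4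
    · have := h4 i
      rw [h1] at this
      exact absurd this (by simp)
  · obtain ⟨k, -, e⟩ := hw.2 i ((hJ i).2 hi)
    rw [e]
    exact sr_nonneg k

variable (R : RGD cs h p T n X)

include R

/-- automorphisms inducing representatives -/
theorem swapA_of {k₀ k₁ : I} {β : MulAut Y} (hβ : ∀ x, IsRoot cs h x → Fix β (X x)) {w : W} {g : Y}
    (hg : Rp cs R.nsys w g) (h0 : rep cs h w (sr k₀) = sr k₁) (h1 : rep cs h w (sr k₁) = sr k₀) :
    SwapA X k₀ k₁ (β * MulAut.conj g⁻¹) := by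
  have key : ∀ x y, IsRoot cs h x → rep cs h w y = x → ∀ u ∈ X x, (β * MulAut.conj g⁻¹) u ∈ X y := by
    intro x y hx hy u hu
    have hy' : y = rep cs h w⁻¹ x := by rw [← hy, rep_inv_apply]
    have h2 : IsRoot cs h y := by rw [hy']; exact hx.act _
    rw [MulAut.mul_apply, hβ y h2, MulAut.conj_apply, inv_inv, hy', ← R.conj_rp hg.inv hx, mem_cj, inv_inv]
    have : g * (g⁻¹ * u * g) * g⁻¹ = u := by group
    rwa [this]
  refine ⟨key _ _ (isRoot_sr cs h k₀) h1, key _ _ (isRoot_sr cs h k₁) h0, key _ _ (isRoot_sr cs h k₀).neg ?_,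
    key _ _ (isRoot_sr cs h k₁).neg ?_⟩
  · rw [map_neg, h1]
  · rw [map_neg, h0]

/-- **The product character.** -/
theorem two_of_A2 [Finite W] {J K K' : Set I} {j : I} (hJ : ∀ i, i ∈ J ↔ i ≠ j) (hJK : J = K ∪ K')
    (ho : Orth A K K') {k₀ k₁ : I} (hk : IsoPair A J k₀ k₁) (hk1 : A k₁ j = 0) (h3 : ¬ (3 : ℤ) ∣ A k₀ j)
    (hun : ∀ a b, IsoPair A J a b → (a = k₀ ∧ b = k₁) ∨ (a = k₁ ∧ b = k₀))
    {θ : ↥(MJ cs h X K) → ℂ} (hns : ∀ γ : MulAut Y, SwapA X k₀ k₁ γ → NotFix (MJ cs h X K) θ γ)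
    {θ' : ↥(MJ cs h X K') → ℂ} (hθ' : θ' 1 ≠ 0) {ψ : ↥(MJ cs h X J) → ℂ}
    (hψ : ∀ (a : Y) (ha : a ∈ MJ cs h X K) (b : Y) (hb : b ∈ MJ cs h X K'),
        ∃ hab : a * b ∈ MJ cs h X J, ψ ⟨a * b, hab⟩ = θ ⟨a, ha⟩ * θ' ⟨b, hb⟩)
    {β : MulAut Y} (hβ : ∀ x, IsRoot cs h x → Fix β (X x))
    (hβT : ∀ t ∈ T, NotFix (MJ cs h X K) θ (β * MulAut.conj t))
    {w : W} {g : Y} (hg : Rp cs R.nsys w g) (hw : Perm cs h J w) :
    ∃ (m : Y) (hm : m ∈ MJ cs h X J) (hm' : β (g⁻¹ * m * g) ∈ MJ cs h X J),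
      ψ ⟨β (g⁻¹ * m * g), hm'⟩ ≠ ψ ⟨m, hm⟩ := by
  have hle : MJ cs h X K ≤ MJ cs h X J := by
    rw [hJK, ho.MJ_union]
    exact le_sup_left
  have hval : ∀ (a : Y) (ha : a ∈ MJ cs h X K), ψ ⟨a, hle ha⟩ = θ ⟨a, ha⟩ * θ' 1 := by
    intro a ha
    obtain ⟨hab, e⟩ := hψ a ha 1 (one_mem _)
    simp only [mul_one] at e
    exact e
  have hnf : NotFix (MJ cs h X K) θ (β * MulAut.conj g⁻¹) := by
    by_cases hwJ : w ∈ WJ cs J
    · have h1 := eq_one_of_perm hJ hw hwJ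
      subst h1
      exact hβT _ (inv_mem hg.mem_of_one)
    · obtain ⟨h0, h1⟩ := swap_of_iso hJ hk hk1 h3 hun hw hwJ
      exact hns _ (swapA_of R hβ hg h0 h1)
  obtain ⟨m, hm, hm', hne⟩ := hnf
  have e1 : (β * MulAut.conj g⁻¹) m = β (g⁻¹ * m * g) := by
    rw [MulAut.mul_apply, MulAut.conj_apply, inv_inv]
  have hm2 : β (g⁻¹ * m * g) ∈ MJ cs h X K := e1 ▸ hm'
  refine ⟨m, hle hm, hle hm2, fun h2 => hne ?_⟩
  rw [hval _ hm2, hval _ hm] at h2
  have h4 := mul_right_cancel₀ hθ' h2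
  rw [← h4]
  congr 1
  exact Subtype.ext e1

variable {F : Type*} [Field F] {x : (I → ℤ) → F → Y} {χ : (I → ℤ) → Y → F} {hh : I → F → Y}

/-- inner automorphisms from the torus have trivial field automorphism -/
theorem tau_conj [Finite W] (C : Coords cs h T n X x χ) {t : Y} (ht : t ∈ T) :
    Tau T X χ A (MulAut.conj t) 1 1 where
  diag := {
    tor := fun y => by
      rw [MulAut.conj_apply]
      constructor
      · intro h1
        have := mul_mem (mul_mem (inv_mem ht) h1) ht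
        rwa [← mul_assoc, ← mul_assoc, inv_mul_cancel, one_mul, inv_mul_cancel_right] at this
      · intro h1
        exact mul_mem (mul_mem ht h1) (inv_mem ht)
    pos := fun i y => by
      have h1 := R.tor _ (isRoot_sr cs h i) t ht
      change MulAut.conj t y ∈ X (sr i) ↔ y ∈ X (sr i)
      constructor
      · intro h2
        rw [← h1, mem_cj] at h2
        rw [MulAut.conj_apply] at h2
        have : t⁻¹ * (t * y * t⁻¹) * t = y := by group
        rwa [this] at h2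
      · intro h2
        rw [← h1, mem_cj, MulAut.conj_apply]
        have : t⁻¹ * (t * y * t⁻¹) * t = y := by group
        rwa [this]
    neg := fun i y => by
      have h1 := R.tor _ (isRoot_sr cs h i).neg t ht
      change MulAut.conj t y ∈ X (-sr i) ↔ y ∈ X (-sr i)
      constructor
      · intro h2
        rw [← h1, mem_cj] at h2
        rw [MulAut.conj_apply] at h2
        have : t⁻¹ * (t * y * t⁻¹) * t = y := by group
        rwa [this] at h2
      · intro h2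
        rw [← h1, mem_cj, MulAut.conj_apply]
        have : t⁻¹ * (t * y * t⁻¹) * t = y := by group
        rwa [this] }
  cartan _ _ := rfl
  char i s hs := by
    change χ (sr i) (MulAut.conj t s) = χ (sr i) s
    rw [MulAut.conj_apply]
    exact (C.coord _ (isRoot_sr cs h i)).chi_conj ht hs

/-- automorphisms with a nontrivial field automorphism are not linear -/
theorem nonLin_of_tau [Finite W] (C : Coords cs h T n X x χ) (H : Coroots A T X χ hh) {k₀ k₁ : I}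
    (hM : A k₁ k₀ = -1) {γ : MulAut Y} {τ : F ≃+* F} (S : Tau T X χ A γ 1 τ) (hτ : τ ≠ 1) :
    NonLin X k₀ k₁ γ := by
  obtain ⟨a, ha⟩ : ∃ a : F, τ a ≠ a := by
    by_contra hcon
    push Not at hcon
    exact hτ (RingEquiv.ext hcon)
  have ha0 : a ≠ 0 := by
    rintro rfl
    exact ha (map_zero τ)
  obtain ⟨hsT, hs⟩ := (H.mem k₁ (hh k₁ a)).2 ⟨a, ha0, rfl⟩
  have hCd := C.coord _ (isRoot_sr cs h k₀)
  have hact : ∀ b, hh k₁ a * x (sr k₀) b * (hh k₁ a)⁻¹ = x (sr k₀) (a⁻¹ * b) := by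
    intro b
    rw [hCd.act _ hsT, H.char k₀ k₁ a ha0, hM, zpow_neg_one]
  obtain ⟨c, hc, e⟩ := Tau.root R C S (isRoot_sr cs h k₀)
  have e' : ∀ b, γ (x (sr k₀) b) = x (sr k₀) (c * τ b) := fun b => e b
  refine ⟨hh k₁ a, hs, ?_, x (sr k₀) 1, (hCd.mem _).2 ⟨1, rfl⟩, ?_⟩
  · intro u hu
    obtain ⟨b, rfl⟩ := (hCd.mem _).1 hu
    rw [hact]
    exact (hCd.mem _).2 ⟨_, rfl⟩
  · rw [hact, e', e', hact, map_one, mul_one, mul_one, map_inv₀]
    intro h1
    have h2 := hCd.inj h1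
    rw [mul_comm] at h2
    have h3 := mul_right_cancel₀ hc h2
    exact ha (inv_injective h3)

/-- the frame automorphisms fix the simple root groups -/
theorem dirA_of_tau {γ : MulAut Y} {τ : F ≃+* F} (S : Tau T X χ A γ 1 τ) (k₀ k₁ : I) : DirA X k₀ k₁ γ where
  h1 u hu := (S.diag.pos k₀ u).2 hu
  h2 u hu := (S.diag.pos k₁ u).2 hu
  h3 u hu := (S.diag.neg k₀ u).2 hu
  h4 u hu := (S.diag.neg k₁ u).2 hu

/-- frame automorphisms without diagram symmetry fix all root groups -/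
theorem fix_of_tau [Finite W] (C : Coords cs h T n X x χ) {γ : MulAut Y} {τ : F ≃+* F} (S : Tau T X χ A γ 1 τ)
    {r : I → ℤ} (hr : IsRoot cs h r) : Fix γ (X r) := by
  have key : ∀ {γ : MulAut Y} {τ : F ≃+* F}, Tau T X χ A γ 1 τ → ∀ u ∈ X r, γ u ∈ X r := by
    intro γ τ S u hu
    obtain ⟨c, -, e⟩ := Tau.root R C S hr
    obtain ⟨b, rfl⟩ := ((C.coord _ hr).mem _).1 hu
    exact ((C.coord _ hr).mem _).2 ⟨c * τ b, (e b).symm⟩
  intro u
  refine ⟨fun h1 => ?_, key S u⟩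
  have := key S.inv _ h1
  rwa [MulAut.inv_apply_self] at this

/-- the direct case -/
theorem notFix_of_tau [Finite W] (C : Coords cs h T n X x χ) (H : Coroots A T X χ hh) {k₀ k₁ : I}
    (hM : A k₁ k₀ = -1) {K : Set I} {θ : ↥(MJ cs h X K) → ℂ}
    (hd : ∀ γ : MulAut Y, DirA X k₀ k₁ γ → NonLin X k₀ k₁ γ → NotFix (MJ cs h X K) θ γ)
    {β : MulAut Y} {τ : F ≃+* F} (S : Tau T X χ A β 1 τ) (hτ : τ ≠ 1) {t : Y} (ht : t ∈ T) :
    NotFix (MJ cs h X K) θ (β * MulAut.conj t) := by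
  have S' : Tau T X χ A (β * MulAut.conj t) 1 τ := by
    have := S.mul (tau_conj R C ht)
    rwa [one_mul, mul_one] at this
  exact hd _ (dirA_of_tau R S' k₀ k₁) (nonLin_of_tau R C H hM S' hτ)

end Cfsg.Agent.H728.Ext
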