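import Cfsg.Agent.KFacts.SysOut
import Cfsg.Agent.H936.DSRgd
import Cfsg.Agent.H728.Ext.Stab

/-!
# The outer automorphism homomorphism of a root group datum with coordinates (helper728, S4832, EXT-E7)

`exists_outHom` : `Aut Y → Sym(I) × Aut(F)`, trivial on inner automorphisms; every automorphism is the product of an
inner automorphism and a frame automorphism with these data.
-/

set_option autoImplicit false
set_option linter.unusedSectionVars false

namespace Cfsg.Agent.H728.Ext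

open CoxeterSystem Cfsg.Agent.ChevalleyStructure.CoxeterGeom Cfsg.Agent.Tits.Roots Cfsg.Agent.Tits.Core
  Cfsg.Agent.Tits.Exchange Cfsg.Agent.Nodes.Reps Cfsg.Agent.Nodes.BNOf Cfsg.Agent.Nodes.StabComb
  Cfsg.Agent.Nodes.Bruhat Cfsg.Agent.Nodes.OppDec Cfsg.Agent.Nodes.LeviDec Cfsg.Agent.Nodes.NormalForm
  Cfsg.Agent.KFacts.RgdOpp Cfsg.Agent.KFacts.RgdAut Cfsg.Agent.KFacts.RgdDiag Cfsg.Agent.KFacts.RgdRigid
  Cfsg.Agent.KFacts.RgdField Cfsg.Agent.KFacts.RgdTau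

variable {I W Y : Type*} [Fintype I] [DecidableEq I] [Group W] [Group Y] {M : CoxeterMatrix I}
  {cs : CoxeterSystem M W} {A : I → I → ℤ} {h : IsCartan M A} {p : ℕ} {T : Subgroup Y} {n : I → Y}
  {X : (I → ℤ) → Subgroup Y} {F : Type*} [Field F] {x : (I → ℤ) → F → Y} {χ : (I → ℤ) → Y → F} {hh : I → F → Y}

variable (R : RGD cs h p T n X) [Finite W] [Finite Y] [Nonempty I] [Fact p.Prime]
  (hG1 : RGD.Sup X {x | IsRoot cs h x} = ⊤) (C : Coords cs h T n X x χ)

include R hG1 C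

/-- an inner automorphism of the frame has trivial diagram symmetry and trivial field automorphism -/
theorem tau_inner {z : Y} {σ : Equiv.Perm I} {τ : F ≃+* F} (B : Tau T X χ A (MulAut.conj z) σ τ) : σ = 1 ∧ τ = 1 := by
  have hz := KFacts.SysOut.mem_T_of_fix R (GG_eq_top hG1) (KFacts.SysOut.fix_U_of_tau R B)
    (KFacts.RgdOver.fix_UN_of_tau R B)
  exact Tau.unique R C B (tau_conj R C hz)

/-- **The outer automorphism.** -/
theorem exists_outHom (H : Coroots A T X χ hh)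
    (hconn : ∀ J : Set I, J.Nonempty → J ≠ Set.univ → ∃ a ∈ J, ∃ b, b ∉ J ∧ M a b ≠ 2)
    (hA : ∀ σ : Equiv.Perm I, (∀ i j, M (σ i) (σ j) = M i j) → ∀ i j, A (σ i) (σ j) = A i j) :
    ∃ l : MulAut Y →* Equiv.Perm I × (F ≃+* F),
    (∀ y, l (MulAut.conj y) = 1) ∧
    (∀ α, ∃ y β, α = MulAut.conj y * β ∧ Tau T X χ A β (l α).1 (l α).2) ∧
    (∀ β σ τ, Tau T X χ A β σ τ → l β = (σ, τ)) := by
  classical
  have h1 : ∀ α : MulAut Y, ∃ q : Equiv.Perm I × (F ≃+* F), ∃ (y : Y) (β : MulAut Y),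
      α = MulAut.conj y * β ∧ Tau T X χ A β q.1 q.2 := by
    intro α
    obtain ⟨y, β, hβ, h1⟩ := H936.exists_frame_mul R hG1 α
    obtain ⟨σ, D⟩ := exists_diag R (GG_eq_top hG1) hβ.1 hβ.2
    obtain ⟨τ, h2⟩ := exists_tau R C H hconn D (hA σ (D.matrix R))
    exact ⟨(σ, τ), y, β, h1, h2⟩
  choose q hq using h1
  have huniq : ∀ (α : MulAut Y) (y : Y) (β : MulAut Y) (σ : Equiv.Perm I) (τ : F ≃+* F), α = MulAut.conj y * β →
      Tau T X χ A β σ τ → q α = (σ, τ) := by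
    intro α y β σ τ h1 h2
    obtain ⟨y', β', h3, h4⟩ := hq α
    have h5 : Tau T X χ A (β' * β⁻¹) ((q α).1 * σ⁻¹) ((q α).2 * τ⁻¹) := h4.mul h2.inv
    have h6 : β' * β⁻¹ = MulAut.conj (y'⁻¹ * y) := by
      rw [h1] at h3
      have h7 : β' = MulAut.conj y'⁻¹ * (MulAut.conj y * β) := by
        rw [h3, ← mul_assoc, ← map_mul, inv_mul_cancel, map_one, one_mul]
      rw [h7, map_mul]; group
    rw [h6] at h5
    obtain ⟨h7, h8⟩ := tau_inner R hG1 C h5
    exact Prod.ext (mul_inv_eq_one.1 h7) (mul_inv_eq_one.1 h8)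
  have hmul : ∀ α γ, q (α * γ) = q α * q γ := by
    intro α γ
    obtain ⟨y, β, h1, h2⟩ := hq α
    obtain ⟨y', β', h3, h4⟩ := hq γ
    refine huniq _ (y * β y') (β * β') _ _ ?_ (h2.mul h4)
    rw [h1, h3]
    ext z
    simp only [MulAut.mul_apply, MulAut.conj_apply, map_mul, map_inv, mul_inv_rev, mul_assoc]
  refine ⟨MonoidHom.mk' q hmul, fun y => ?_, fun α => hq α, fun β σ τ hB => ?_⟩
  · exact huniq _ y 1 1 1 (by rw [mul_one]) Tau.one
  · exact huniq _ 1 β σ τ (by rw [map_one, one_mul]) hB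

end Cfsg.Agent.H728.Ext
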