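import Cfsg.Agent.H728.Ext.Num
import Cfsg.Agent.H622.Levi.NonSwap
import Cfsg.Agent.KFacts.RgdTau

/-!
# Generic cuspidal characters of the Levi subgroups of type `A_2` (helper728, S4832, EXT-E7)

`θ` on `M_K`, `K = {k₀, k₁}` of type `A_2`, is not invariant under

* the automorphisms `γ` of the group which interchange the root groups of `k₀` and `k₁` (`SwapA`);
* the automorphisms `γ` which fix the root groups (`DirA`) and are not linear (`NonLin`) on `X_{k₀}`.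

`exists_a2A` : the characters.
-/

set_option autoImplicit false
set_option linter.unusedSectionVars false

namespace Cfsg.Agent.H728.Ext

open Cfsg Cfsg.Agent.Characters CoxeterSystem Cfsg.Agent.ChevalleyStructure.CoxeterGeom Cfsg.Agent.Tits.Roots
  Cfsg.Agent.Tits.Core Cfsg.Agent.Nodes.Reps Cfsg.Agent.Nodes.BNOf Cfsg.Agent.Nodes.StabComb
open Cfsg.Agent.LieRecognition.BNCox (cA)
open Cfsg.Agent.TitsThree.KSideA (tv tv_of_ne tv_add tv_zero tv_neg tv_comm)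
open Cfsg.Agent.H622.Levi
open Matrix
open scoped commutatorElement ComplexConjugate

section lin

variable {F : Type*} [Field F]

/-- elements of `GL_3` preserving a root group act linearly on it -/
theorem lin_of {P Q : Matrix (Fin 3) (Fin 3) F} (hPQ : P * Q = 1) {a b ζ : F}
    (h : P * (1 + Matrix.single 0 1 a) * Q = ζ • (1 + Matrix.single 0 1 b : Matrix (Fin 3) (Fin 3) F)) :
    b = P 0 0 * Q 1 1 * a := by
  have e : ∀ i j, (1 : Matrix (Fin 3) (Fin 3) F) i j + P i 0 * a * Q 1 j =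
      ζ * ((1 : Matrix (Fin 3) (Fin 3) F) i j + (Matrix.single 0 1 b : Matrix (Fin 3) (Fin 3) F) i j) := by
    intro i j
    have h1 := congrFun (congrFun h i) j
    rw [mul_add, mul_one, add_mul, hPQ, Matrix.add_apply, Matrix.smul_apply, Matrix.add_apply, smul_eq_mul] at h1
    rw [← h1]
    congr 1
    simp [Matrix.mul_apply, Fin.sum_univ_three, Matrix.single_apply]
  have e11 := e 1 1
  have e22 := e 2 2
  have e12 := e 1 2
  have e21 := e 2 1
  have e01 := e 0 1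
  simp at e11 e22 e12 e21 e01
  have h2 : (ζ - 1) * (ζ - 1) = 0 := by
    have h3 : ζ - 1 = P 1 0 * a * Q 1 1 := by rw [← e11]; ring
    have h4 : ζ - 1 = P 2 0 * a * Q 1 2 := by rw [← e22]; ring
    have h5 : (ζ - 1) * (ζ - 1) = (P 1 0 * a * Q 1 2) * (P 2 0 * a * Q 1 1) := by
      nth_rewrite 1 [h3]
      rw [h4]
      ring
    rw [h5]
    have h6 : P 1 0 * a * Q 1 2 = 0 := by
      rcases e12 with (h7 | h7) | h7 <;> simp [h7]
    rw [h6, zero_mul]
  have h3 : ζ = 1 := by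
    have := mul_self_eq_zero.1 h2
    exact sub_eq_zero.1 this
  rw [h3, one_mul] at e01
  rw [← e01]
  ring

end lin

section semi

variable {F : Type*} [Field F] {Y : Type*} [Group Y] {φ : SpecialLinearGroup (Fin 3) F →* Y}

theorem inr_conj (γ : MulAut Y) (y : Y) :
    (SemidirectProduct.inr γ : Y ⋊[MonoidHom.id (MulAut Y)] MulAut Y) * SemidirectProduct.inl y *
      (SemidirectProduct.inr γ)⁻¹ = SemidirectProduct.inl (γ y) := by
  rw [← map_inv]
  exact (SemidirectProduct.inl_aut (φ := MonoidHom.id (MulAut Y)) γ y).symm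

theorem inl_inj {x y : Y} (h : (SemidirectProduct.inl x : Y ⋊[MonoidHom.id (MulAut Y)] MulAut Y) =
    SemidirectProduct.inl y) : x = y := SemidirectProduct.inl_injective h

theorem exists_swapA [Finite F] (hinj : ∀ a b : Fin 3, a ≠ b → Function.Injective fun t : F => φ (tv a b t)) {γ : MulAut Y}
    (hg : ∀ a b : Fin 3, a ≠ b → ∀ s : F, ∃ t : F, γ (φ (tv a b s)) = φ (tv (Fin.rev b) (Fin.rev a) t)) :
    ∃ (τ : F ≃+* F) (C : GL (Fin 3) F), ∀ x, γ (φ x) = φ (swapHom C τ x) := by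
  obtain ⟨τ, C, hC⟩ := exists_swap
    (φ := (SemidirectProduct.inl (φ := MonoidHom.id (MulAut Y))).comp φ) (g := SemidirectProduct.inr γ)
    (fun a b hab s t hst => hinj a b hab (inl_inj hst)) (fun a b hab s => by
      obtain ⟨t, ht⟩ := hg a b hab s
      refine ⟨t, ?_⟩
      rw [MonoidHom.comp_apply, inr_conj, ht]
      rfl)
  refine ⟨τ, C, fun x => inl_inj ?_⟩
  rw [← inr_conj]
  exact hC x

theorem exists_dirA [Finite F] (hinj : ∀ a b : Fin 3, a ≠ b → Function.Injective fun t : F => φ (tv a b t)) {γ : MulAut Y}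
    (hg : ∀ a b : Fin 3, a ≠ b → ∀ s : F, ∃ t : F, γ (φ (tv a b s)) = φ (tv a b t)) :
    ∃ (τ : F ≃+* F) (C : GL (Fin 3) F), ∀ x, γ (φ x) = φ (dirHom C τ x) := by
  obtain ⟨τ, C, hC⟩ := exists_dir
    (φ := (SemidirectProduct.inl (φ := MonoidHom.id (MulAut Y))).comp φ) (g := SemidirectProduct.inr γ)
    (fun a b hab s t hst => hinj a b hab (inl_inj hst)) (fun a b hab s => by
      obtain ⟨t, ht⟩ := hg a b hab s
      refine ⟨t, ?_⟩
      rw [MonoidHom.comp_apply, inr_conj, ht]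
      rfl)
  refine ⟨τ, C, fun x => inl_inj ?_⟩
  rw [← inr_conj]
  exact hC x

/-- composition of root groups, swapped -/
theorem swap_ofA {γ : MulAut Y} {a b c : Fin 3} (hab : a ≠ b) (hbc : b ≠ c) (hac : a ≠ c)
    (h1 : ∀ s : F, ∃ t : F, γ (φ (tv a b s)) = φ (tv (Fin.rev b) (Fin.rev a) t))
    (h2 : ∀ s : F, ∃ t : F, γ (φ (tv b c s)) = φ (tv (Fin.rev c) (Fin.rev b) t)) (s : F) :
    ∃ t : F, γ (φ (tv a c s)) = φ (tv (Fin.rev c) (Fin.rev a) t) := by
  have hrev : ∀ {a b : Fin 3}, a ≠ b → Fin.rev b ≠ Fin.rev a := fun hab h => hab (Fin.rev_injective h).symm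
  obtain ⟨t, ht⟩ := h1 s
  obtain ⟨u, hu⟩ := h2 1
  refine ⟨-(u * t), ?_⟩
  have e1 : tv a c s = ⁅tv a b s, tv b c (1 : F)⁆ := by rw [tv_comm hab hbc hac, mul_one]
  rw [e1, map_commutatorElement, map_commutatorElement, ht, hu, ← map_commutatorElement,
    ← commutatorElement_inv, tv_comm (hrev hbc) (hrev hab) (hrev hac), ← tv_neg]

/-- composition of root groups -/
theorem dir_ofA {γ : MulAut Y} {a b c : Fin 3} (hab : a ≠ b) (hbc : b ≠ c) (hac : a ≠ c)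
    (h1 : ∀ s : F, ∃ t : F, γ (φ (tv a b s)) = φ (tv a b t))
    (h2 : ∀ s : F, ∃ t : F, γ (φ (tv b c s)) = φ (tv b c t)) (s : F) :
    ∃ t : F, γ (φ (tv a c s)) = φ (tv a c t) := by
  obtain ⟨t, ht⟩ := h1 s
  obtain ⟨u, hu⟩ := h2 1
  refine ⟨t * u, ?_⟩
  have e1 : tv a c s = ⁅tv a b s, tv b c (1 : F)⁆ := by rw [tv_comm hab hbc hac, mul_one]
  rw [e1, map_commutatorElement, map_commutatorElement, ht, hu, ← map_commutatorElement,
    tv_comm hab hbc hac]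

end semi

variable {I W Y : Type*} [Fintype I] [DecidableEq I] [Group W] [Group Y] {M : CoxeterMatrix I}
  {cs : CoxeterSystem M W} {A : I → I → ℤ} {h : IsCartan M A} {p : ℕ} {T : Subgroup Y} {n : I → Y}
  {X : (I → ℤ) → Subgroup Y}

/-- `γ` interchanges the root groups of `k₀` and `k₁` -/
structure SwapA (X : (I → ℤ) → Subgroup Y) (k₀ k₁ : I) (γ : MulAut Y) : Prop where
  h1 : ∀ u ∈ X (sr k₀), γ u ∈ X (sr k₁)
  h2 : ∀ u ∈ X (sr k₁), γ u ∈ X (sr k₀)
  h3 : ∀ u ∈ X (-sr k₀), γ u ∈ X (-sr k₁)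
  h4 : ∀ u ∈ X (-sr k₁), γ u ∈ X (-sr k₀)

/-- `γ` fixes the root groups of `k₀` and `k₁` -/
structure DirA (X : (I → ℤ) → Subgroup Y) (k₀ k₁ : I) (γ : MulAut Y) : Prop where
  h1 : ∀ u ∈ X (sr k₀), γ u ∈ X (sr k₀)
  h2 : ∀ u ∈ X (sr k₁), γ u ∈ X (sr k₁)
  h3 : ∀ u ∈ X (-sr k₀), γ u ∈ X (-sr k₀)
  h4 : ∀ u ∈ X (-sr k₁), γ u ∈ X (-sr k₁)

/-- `γ` is not linear on the root group of `k₀` -/
def NonLin (X : (I → ℤ) → Subgroup Y) (k₀ k₁ : I) (γ : MulAut Y) : Prop :=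
  ∃ s ∈ X (sr k₁) ⊔ X (-sr k₁), (∀ u ∈ X (sr k₀), s * u * s⁻¹ ∈ X (sr k₀)) ∧
    ∃ u ∈ X (sr k₀), γ (s * u * s⁻¹) ≠ s * γ u * s⁻¹

/-- `θ` is not invariant under `γ` -/
def NotFix (N : Subgroup Y) (θ : N → ℂ) (γ : MulAut Y) : Prop :=
  ∃ (m : Y) (hm : m ∈ N) (hm' : γ m ∈ N), θ ⟨γ m, hm'⟩ ≠ θ ⟨m, hm⟩

section co

variable {F : Type} [Field F] {φ : SpecialLinearGroup (Fin 3) F →* Y}

/-- images of root groups -/
theorem map_of {k : Fin 2 → I} (C : Co X k F φ) {γ : MulAut Y} {a b a' b' : Fin 3} (hab : a ≠ b) (hab' : a' ≠ b')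
    (hg : ∀ u ∈ X (cr k a b), γ u ∈ X (cr k a' b')) (s : F) : ∃ t : F, γ (φ (tv a b s)) = φ (tv a' b' t) := by
  have h1 : φ (tv a b s) ∈ X (cr k a b) := by
    have h0 : φ (tv a b s) ∈ (X (cr k a b) : Set Y) := by
      rw [C.root a b hab, tv_of_ne hab]
      exact ⟨s, rfl⟩
    exact h0
  have h2 : γ (φ (tv a b s)) ∈ (X (cr k a' b') : Set Y) := hg _ h1
  rw [C.root a' b' hab'] at h2
  obtain ⟨t, ht⟩ := h2
  exact ⟨t, by rw [tv_of_ne hab']; exact ht.symm⟩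

variable {k : Fin 2 → I} (C : Co X k F φ)
include C

theorem swap_tvA {γ : MulAut Y} (S : SwapA X (k 0) (k 1) γ) (a b : Fin 3) (hab : a ≠ b)
    (s : F) : ∃ t : F, γ (φ (tv a b s)) = φ (tv (Fin.rev b) (Fin.rev a) t) := by
  have e01 : cr k 0 1 = sr (k 0) := cr_succ k 0
  have e12 : cr k 1 2 = sr (k 1) := cr_succ k 1
  have e10 : cr k 1 0 = -sr (k 0) := by rw [← e01, cr_neg]
  have e21 : cr k 2 1 = -sr (k 1) := by rw [← e12, cr_neg]
  have f01 : ∀ s : F, ∃ t : F, γ (φ (tv 0 1 s)) = φ (tv (Fin.rev 1) (Fin.rev 0) t) :=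
    map_of C (by decide) (by decide) (by
      change ∀ u ∈ X (cr k 0 1), γ u ∈ X (cr k 1 2)
      rw [e01, e12]
      exact S.h1)
  have f12 : ∀ s : F, ∃ t : F, γ (φ (tv 1 2 s)) = φ (tv (Fin.rev 2) (Fin.rev 1) t) :=
    map_of C (by decide) (by decide) (by
      change ∀ u ∈ X (cr k 1 2), γ u ∈ X (cr k 0 1)
      rw [e01, e12]
      exact S.h2)
  have f10 : ∀ s : F, ∃ t : F, γ (φ (tv 1 0 s)) = φ (tv (Fin.rev 0) (Fin.rev 1) t) :=
    map_of C (by decide) (by decide) (by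
      change ∀ u ∈ X (cr k 1 0), γ u ∈ X (cr k 2 1)
      rw [e10, e21]
      exact S.h3)
  have f21 : ∀ s : F, ∃ t : F, γ (φ (tv 2 1 s)) = φ (tv (Fin.rev 1) (Fin.rev 2) t) :=
    map_of C (by decide) (by decide) (by
      change ∀ u ∈ X (cr k 2 1), γ u ∈ X (cr k 1 0)
      rw [e10, e21]
      exact S.h4)
  fin_cases a <;> fin_cases b
  · exact absurd rfl hab
  · exact f01 s
  · exact swap_ofA (by decide) (by decide) (by decide) f01 f12 s
  · exact f10 s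
  · exact absurd rfl hab
  · exact f12 s
  · exact swap_ofA (by decide) (by decide) (by decide) f21 f10 s
  · exact f21 s
  · exact absurd rfl hab

theorem dir_tvA {γ : MulAut Y} (S : DirA X (k 0) (k 1) γ) (a b : Fin 3) (hab : a ≠ b)
    (s : F) : ∃ t : F, γ (φ (tv a b s)) = φ (tv a b t) := by
  have e01 : cr k 0 1 = sr (k 0) := cr_succ k 0
  have e12 : cr k 1 2 = sr (k 1) := cr_succ k 1
  have e10 : cr k 1 0 = -sr (k 0) := by rw [← e01, cr_neg]
  have e21 : cr k 2 1 = -sr (k 1) := by rw [← e12, cr_neg]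
  have f01 : ∀ s : F, ∃ t : F, γ (φ (tv 0 1 s)) = φ (tv 0 1 t) :=
    map_of C (by decide) (by decide) (by rw [e01]; exact S.h1)
  have f12 : ∀ s : F, ∃ t : F, γ (φ (tv 1 2 s)) = φ (tv 1 2 t) :=
    map_of C (by decide) (by decide) (by rw [e12]; exact S.h2)
  have f10 : ∀ s : F, ∃ t : F, γ (φ (tv 1 0 s)) = φ (tv 1 0 t) :=
    map_of C (by decide) (by decide) (by rw [e10]; exact S.h3)
  have f21 : ∀ s : F, ∃ t : F, γ (φ (tv 2 1 s)) = φ (tv 2 1 t) :=
    map_of C (by decide) (by decide) (by rw [e21]; exact S.h4)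
  fin_cases a <;> fin_cases b
  · exact absurd rfl hab
  · exact f01 s
  · exact dir_ofA (by decide) (by decide) (by decide) f01 f12 s
  · exact f10 s
  · exact absurd rfl hab
  · exact f12 s
  · exact dir_ofA (by decide) (by decide) (by decide) f21 f10 s
  · exact f21 s
  · exact absurd rfl hab

omit C in
/-- linearity of the elements inducing elements of `GL_3` -/
theorem lin_act (hker : φ.ker ≤ Subgroup.center (SpecialLinearGroup (Fin 3) F)) {γ : MulAut Y} (D : GL (Fin 3) F)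
    (hD : ∀ x, ∃ y : SpecialLinearGroup (Fin 3) F, γ (φ x) = φ y ∧
      y.1 = (D : Matrix (Fin 3) (Fin 3) F) * x.1 * ((D⁻¹ : GL (Fin 3) F) : Matrix (Fin 3) (Fin 3) F))
    (h1 : ∀ s : F, ∃ t : F, γ (φ (tv 0 1 s)) = φ (tv 0 1 t)) :
    ∃ c : F, ∀ s : F, γ (φ (tv 0 1 s)) = φ (tv 0 1 (c * s)) := by
  refine ⟨(D : Matrix (Fin 3) (Fin 3) F) 0 0 * ((D⁻¹ : GL (Fin 3) F) : Matrix (Fin 3) (Fin 3) F) 1 1, fun s => ?_⟩
  obtain ⟨t, ht⟩ := h1 s
  obtain ⟨y, hy, hy'⟩ := hD (tv 0 1 s)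
  rw [ht]
  have h2 : (tv 0 1 t)⁻¹ * y ∈ φ.ker := by
    rw [MonoidHom.mem_ker, map_mul, map_inv, ← hy, ht, inv_mul_cancel]
  have h3 := hker h2
  rw [Matrix.SpecialLinearGroup.mem_center_iff] at h3
  obtain ⟨ζ, -, hζ⟩ := h3
  have h4 : y.1 = ζ • (tv 0 1 t : SpecialLinearGroup (Fin 3) F).1 := by
    have e1 : y = tv 0 1 t * ((tv 0 1 t)⁻¹ * y) := by group
    have e2 := congrArg Subtype.val e1
    rw [Matrix.SpecialLinearGroup.coe_mul] at e2
    rw [e2, ← hζ]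
    ext i j
    simp [Matrix.scalar_apply, mul_comm]
  have h01 : (0 : Fin 3) ≠ 1 := by decide
  rw [hy', val_tv h01, val_tv h01] at h4
  have h5 : (D : Matrix (Fin 3) (Fin 3) F) * ((D⁻¹ : GL (Fin 3) F) : Matrix (Fin 3) (Fin 3) F) = 1 := by
    rw [← Units.val_mul, mul_inv_cancel, Units.val_one]
  rw [lin_of h5 h4]

end co

section final

open Cfsg.Agent.H53.HC (conjME conjME_coe NonSwap Cusp)

variable [Finite W] [Finite Y]

variable {F : Type} [Field F] [Finite F] {φ : SpecialLinearGroup (Fin 3) F →* Y} {k : Fin 2 ↪ I}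

/-- **The characters of the Levi subgroups of type `A_2`.** -/
theorem exists_a2A (C : Co X k F φ) (hk : ∀ i j, M (k i) (k j) = cA 2 i j) (hq4 : Nat.card F ≠ 4) :
    ∃ (θ : ↥(H53.HC.MJ cs h X (Set.range k)) → ℂ) (e t : ℕ), Cusp cs h X (Set.range k) θ ∧
      NonSwap cs h X (Set.range k) (k 0) (k 1) θ ∧ θ 1 = e ∧
      e * t = (Nat.card F - 1) * (Nat.card F ^ 2 - 1) ∧ t ∣ 3 ∧
      (∀ γ : MulAut Y, SwapA X (k 0) (k 1) γ → NotFix (H53.HC.MJ cs h X (Set.range k)) θ γ) ∧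
      ∀ γ : MulAut Y, DirA X (k 0) (k 1) γ → NonLin X (k 0) (k 1) γ → NotFix (H53.HC.MJ cs h X (Set.range k)) θ γ := by
  have hq0 : Nat.card F - 1 ≠ 0 := by
    have : 1 < Nat.card F := Finite.one_lt_card
    omega
  obtain ⟨L, _, _, _, hL⟩ : ∃ (L : Type) (_ : Field L) (_ : Algebra F L) (_ : Finite L),
      Module.finrank F L = 3 := by
    obtain ⟨p, hp⟩ := CharP.exists F
    have : Fact p.Prime := ⟨CharP.char_is_prime F p⟩
    exact ⟨FiniteField.Extension F p 3, inferInstance, inferInstance, inferInstance,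
      FiniteField.finrank_extension F p 3⟩
  obtain ⟨θ₀, hθ₀⟩ := H139.Cusp.exists_theta L
  obtain ⟨η, e, t, hη, hc, hz, hs, he, het, ht⟩ := exists_eta (F := F) hL hθ₀ hq0
  obtain ⟨θ, hθ, hv⟩ := exists_descend (cs := cs) (h := h) C hk (by norm_num) hη hz hs
  have hran : φ.range = H53.HC.MJ cs h X (Set.range k) := C.range hk (by norm_num)
  have hmem : ∀ x, φ x ∈ H53.HC.MJ cs h X (Set.range k) := fun x => hran ▸ ⟨x, rfl⟩
  have hinj : ∀ a b : Fin 3, a ≠ b → Function.Injective fun t : F => φ (tv a b t) :=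
    fun a b hab => tv_injective C.ker hab
  have hNS : ∀ γ : MulAut Y, SwapA X (k 0) (k 1) γ → NotFix (H53.HC.MJ cs h X (Set.range k)) θ γ := by
    intro γ S
    obtain ⟨τ, D, hD⟩ := exists_swapA hinj (swap_tvA C S)
    by_contra hcon
    refine H53.HC.Gal.not_swap hθ₀ hL hq0 hη hc τ D (swapHom D τ) (fun x => ?_) ?_
    · rw [Matrix.transpose_map]
      exact coe_swapHom D τ x
    · funext x
      by_contra hne
      refine hcon ⟨φ x, hmem x, by rw [hD]; exact hmem _, fun he => hne ?_⟩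
      rw [Function.comp_apply, ← hv x ⟨φ x, hmem x⟩ rfl, ← he]
      symm
      exact hv _ _ (hD x)
  refine ⟨θ, e, t, hθ, ?_, (hv 1 1 (map_one φ).symm).trans he, het, ht, hNS, ?_⟩
  · intro g hg h1 h2 h3 h4 hcon
    have key : ∀ {P Q : Subgroup Y}, cj g P = Q → ∀ u ∈ P, MulAut.conj g u ∈ Q := by
      intro P Q hPQ u hu
      rw [← hPQ, mem_cj, MulAut.conj_apply]
      have : g⁻¹ * (g * u * g⁻¹) * g = u := by group
      rwa [this]
    obtain ⟨m, hm, hm', hne⟩ := hNS (MulAut.conj g) ⟨key h1, key h2, key h3, key h4⟩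
    exact hne (congrFun hcon ⟨m, hm⟩)
  · rintro γ S ⟨s, hs1, hs2, u, hu, hne⟩
    obtain ⟨τ, D, hD⟩ := exists_dirA hinj (dir_tvA C S)
    by_contra hcon
    have hτ : τ = 1 := by
      by_contra hτ
      refine not_dir hθ₀ hL hq0 hq4 hη hc τ hτ D (dirHom D τ) (fun x => coe_dirHom D τ x) ?_
      funext x
      by_contra hne
      refine hcon ⟨φ x, hmem x, by rw [hD]; exact hmem _, fun he => hne ?_⟩
      rw [Function.comp_apply, ← hv x ⟨φ x, hmem x⟩ rfl, ← he]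
      symm
      exact hv _ _ (hD x)
    have e01 : cr k 0 1 = sr (k 0) := cr_succ k 0
    have hX : ∀ u, u ∈ X (sr (k 0)) ↔ ∃ a : F, φ (tv 0 1 a) = u := by
      intro u
      have h0 : u ∈ X (sr (k 0)) ↔ u ∈ (X (cr k 0 1) : Set Y) := by rw [e01]; rfl
      rw [h0, C.root 0 1 (by decide)]
      constructor
      · rintro ⟨a, rfl⟩
        exact ⟨a, by rw [tv_of_ne (by decide)]⟩
      · rintro ⟨a, rfl⟩
        exact ⟨a, by rw [tv_of_ne (by decide)]⟩
    -- `γ` is linear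
    obtain ⟨c, hcγ⟩ := lin_act C.ker D (γ := γ) (fun x => ⟨_, hD x, by
        rw [coe_dirHom, hτ]
        rfl⟩) (dir_tvA C S 0 1 (by decide))
    -- `s` is linear
    have hsM : s ∈ H53.HC.MJ cs h X (Set.range k) := by
      have h1 : X (sr (k 1)) ⊔ X (-sr (k 1)) ≤ H53.HC.MJ cs h X (Set.range k) := by
        rw [← hran]
        have h2 : ∀ a b (_ : a ≠ b), X (cr k a b) ≤ φ.range := by
          intro a b hab u hu
          have : u ∈ (X (cr k a b) : Set Y) := hu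
          rw [C.root a b hab] at this
          obtain ⟨t, rfl⟩ := this
          exact ⟨_, rfl⟩
        have e12 : cr k 1 2 = sr (k 1) := cr_succ k 1
        have e21 : cr k 2 1 = -sr (k 1) := by rw [← e12, cr_neg]
        rw [← e21, ← e12]
        exact sup_le (h2 1 2 (by decide)) (h2 2 1 (by decide))
      exact h1 hs1
    rw [← hran] at hsM
    obtain ⟨g, rfl⟩ := hsM
    obtain ⟨c', hcs⟩ := lin_act C.ker (SpecialLinearGroup.toGL g) (γ := MulAut.conj (φ g)) (fun x => ⟨g * x * g⁻¹, by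
        rw [MulAut.conj_apply, map_mul, map_mul, map_inv], by
        rw [← map_inv]
        rfl⟩) (fun s => by
        obtain ⟨a, ha⟩ := (hX _).1 (hs2 (φ (tv 0 1 s)) ((hX _).2 ⟨s, rfl⟩))
        exact ⟨a, ha.symm⟩)
    obtain ⟨a, rfl⟩ := (hX _).1 hu
    apply hne
    have h1 := hcs a
    have h2 := hcs (c * a)
    rw [MulAut.conj_apply] at h1 h2
    rw [h1, hcγ, hcγ, h2]
    congr 2
    ring

/-- **The input for one component of type `A_2`.** -/
theorem a2A (R : RGD cs h p T n X) {k₀ k₁ : I} (hM : M k₀ k₁ = 3) {q : ℕ} (hq : Nat.card (X (sr k₀)) = q)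
    (hq4 : q ≠ 4) :
    ∃ (θ : ↥(H53.HC.MJ cs h X {k₀, k₁}) → ℂ) (e t : ℕ), Cusp cs h X {k₀, k₁} θ ∧
      NonSwap cs h X {k₀, k₁} k₀ k₁ θ ∧ θ 1 = e ∧ e * t = (q - 1) * (q ^ 2 - 1) ∧ t ∣ 3 ∧
      (∀ γ : MulAut Y, SwapA X k₀ k₁ γ → NotFix (H53.HC.MJ cs h X {k₀, k₁}) θ γ) ∧
      ∀ γ : MulAut Y, DirA X k₀ k₁ γ → NonLin X k₀ k₁ γ → NotFix (H53.HC.MJ cs h X {k₀, k₁}) θ γ := by
  obtain ⟨k, rfl, rfl, hK, hk⟩ := exists_chain hM
  obtain ⟨F, _, _, φ, C⟩ := exists_co R le_rfl k hk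
  have hcard := C.card 0
  rw [hq] at hcard
  subst hcard
  obtain ⟨θ, e, t, h1, h2, h3, h4, h5, h6, h7⟩ := exists_a2A (cs := cs) (h := h) C hk hq4
  revert θ
  rw [hK]
  intro θ h1 h2 h3 h6 h7
  exact ⟨θ, e, t, h1, h2, h3, h4, h5, h6, h7⟩

end final

end Cfsg.Agent.H728.Ext
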