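import Cfsg.Agent.H728.Ext.OutHom
import Cfsg.Agent.H728.Ext.Gen
import Cfsg.Agent.H728.Ext.FieldTau
import Cfsg.Agent.H936.DSChev
import Cfsg.Agent.H70.OutE
import Cfsg.Agent.H67.ExtBase
import Cfsg.Agent.H55.Ext.Exc

/-!
# Characters of `E₇(q)` extending to their stabilisers (helper728, S4832, task EXT-E7)

`hasExt_E7` : for every prime `p` dividing the order of `S ≃ E₇(q)` some irreducible character of `S` of degree
divisible by `p` extends to its stabiliser in `Aut S`.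
-/

set_option autoImplicit false
set_option linter.unusedSectionVars false

open Cfsg

namespace Cfsg.Agent.H728.Ext

open CoxeterSystem Cfsg.Agent.ChevalleyStructure.CoxeterGeom Cfsg.Agent.Tits.Roots Cfsg.Agent.Tits.Core
  Cfsg.Agent.Nodes.Reps Cfsg.Agent.Nodes.BNOf Cfsg.Agent.Nodes.StabComb
  Cfsg.Agent.Nodes.OppDec Cfsg.Agent.Nodes.RGDChev
  Cfsg.Agent.KFacts.RgdAut Cfsg.Agent.KFacts.RgdDiag Cfsg.Agent.KFacts.RgdRigid
  Cfsg.Agent.KFacts.RgdField Cfsg.Agent.KFacts.RgdTau Cfsg.Agent.KFacts.RgdChevCoord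
open Cfsg.Lie Cfsg.Agent.ChevalleyStructure Cfsg.Agent.ChevalleyStructure.Elts
  Cfsg.Agent.ChevalleyStructure.NPerm Cfsg.Agent.ChevalleyStructure.CoxeterGeomTypes
open Cfsg.Agent.H35.ExcIdx hiding TT XX
open Cfsg.Agent.H53.HC Cfsg.Agent.H53.HC.ExcRows Cfsg.Agent.H53.HC.ExcIM
open Cfsg.Agent.H576.Ext Cfsg.Agent.Characters

universe u

/-- a subgroup of `Aut S` of order at most `2 |Inn S|` -/
theorem cyc_of_card_le {S : Type u} [Group S] [Finite S] {A : Subgroup (MulAut S)}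
    (hI : (MulAut.conj (G := S)).range ≤ A) (hA : Nat.card A ≤ 2 * Nat.card (MulAut.conj (G := S)).range) :
    ∃ γ ∈ A, ∀ α ∈ A, ∃ (k : ℤ) (s : S), α = MulAut.conj s * γ ^ k := by
  by_cases h : A ≤ (MulAut.conj (G := S)).range
  · refine ⟨1, one_mem _, fun α hα => ?_⟩
    obtain ⟨s, hs⟩ := h hα
    exact ⟨0, s, by rw [zpow_zero, mul_one]; exact hs.symm⟩
  · obtain ⟨γ, hγ, hγ'⟩ := SetLike.not_le_iff_exists.1 h
    have h1 : Nat.card (MulAut.conj (G := S)).range * (MulAut.conj (G := S)).range.relIndex A = Nat.card A := by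
      have := Subgroup.relIndex_mul_relIndex ⊥ (MulAut.conj (G := S)).range A bot_le hI
      rwa [Subgroup.relIndex_bot_left, Subgroup.relIndex_bot_left] at this
    have h2 : 0 < Nat.card (MulAut.conj (G := S)).range := Nat.card_pos
    have h3 : (MulAut.conj (G := S)).range.relIndex A ≤ 2 := by
      rw [← h1] at hA
      exact Nat.le_of_mul_le_mul_left (by rw [mul_comm 2] at hA; exact hA) h2
    have h4 : (MulAut.conj (G := S)).range.relIndex A ≠ 1 := fun h5 => h (Subgroup.relIndex_eq_one.1 h5)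
    have h5 : (MulAut.conj (G := S)).range.relIndex A ≠ 0 := by
      intro h6
      rw [h6, mul_zero] at h1
      have : 0 < Nat.card A := Nat.card_pos
      omega
    have h6 : ((MulAut.conj (G := S)).range.subgroupOf A).index = 2 := by
      change (MulAut.conj (G := S)).range.relIndex A = 2
      omega
    refine ⟨γ, hγ, fun α hα => ?_⟩
    by_cases hα' : α ∈ (MulAut.conj (G := S)).range
    · obtain ⟨s, hs⟩ := hα'
      exact ⟨0, s, by rw [zpow_zero, mul_one]; exact hs.symm⟩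
    · have h7 := (Subgroup.mul_mem_iff_of_index_two h6 (a := ⟨α, hα⟩) (b := ⟨γ⁻¹, inv_mem hγ⟩)).2 (by
        rw [Subgroup.mem_subgroupOf, Subgroup.mem_subgroupOf]
        exact ⟨fun h8 => absurd h8 hα', fun h8 => absurd (inv_mem_iff.1 h8) hγ'⟩)
      rw [Subgroup.mem_subgroupOf] at h7
      obtain ⟨s, hs⟩ := h7
      refine ⟨1, s, ?_⟩
      rw [zpow_one, hs]
      change α = α * γ⁻¹ * γ
      rw [inv_mul_cancel_right]

theorem sym_E7 {σ : Equiv.Perm (Fin 7)} (hσ : ∀ i j, CoxeterMatrix.E₇ (σ i) (σ j) = CoxeterMatrix.E₇ i j) : σ = 1 := by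
  have h1 : ∀ i, (![1, 1, 2, 3, 2, 2, 1] : Fin 7 → ℕ) (σ i) = (![1, 1, 2, 3, 2, 2, 1] : Fin 7 → ℕ) i :=
    H936.inv_step hσ (g := fun _ => 1) (fun _ => rfl) (by decide)
  have h2 : ∀ i, (![2, 3, 4, 5, 5, 3, 2] : Fin 7 → ℕ) (σ i) = (![2, 3, 4, 5, 5, 3, 2] : Fin 7 → ℕ) i :=
    H936.inv_step hσ h1 (by decide)
  have h3 : ∀ i, (![4, 5, 7, 12, 8, 7, 3] : Fin 7 → ℕ) (σ i) = (![4, 5, 7, 12, 8, 7, 3] : Fin 7 → ℕ) i :=
    H936.inv_step hσ h2 (by decide)
  have key : ∀ i j : Fin 7, (![2, 3, 4, 5, 5, 3, 2] : Fin 7 → ℕ) i = (![2, 3, 4, 5, 5, 3, 2] : Fin 7 → ℕ) j →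
    (![4, 5, 7, 12, 8, 7, 3] : Fin 7 → ℕ) i = (![4, 5, 7, 12, 8, 7, 3] : Fin 7 → ℕ) j → i = j := by decide
  ext i
  rw [key _ _ (h2 i) (h3 i), Equiv.Perm.one_apply]

theorem laced_m7 : ∀ i j : Fin 7, i ≠ j → m7 i j = 2 ∨ m7 i j = 3 := by decide +kernel

theorem laced_E7 : ∀ i j : Fin 7, i ≠ j → CoxeterMatrix.E₇ i j = 2 ∨ CoxeterMatrix.E₇ i j = 3 := laced_m7

/-- the diagram is connected -/
theorem conn_E7 : ∀ J : Set (Fin 7), J.Nonempty → J ≠ Set.univ → ∃ a ∈ J, ∃ b, b ∉ J ∧ CoxeterMatrix.E₇ a b ≠ 2 := by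
  intro J hJ hJ'
  by_contra hcon
  push Not at hcon
  have step : ∀ a b : Fin 7, CoxeterMatrix.E₇ a b ≠ 2 → (a ∈ J ↔ b ∈ J) := by
    intro a b hab
    constructor
    · intro ha
      by_contra hb
      exact hab (hcon a ha b hb)
    · intro hb
      by_contra ha
      have := hcon b hb a ha
      rw [CoxeterMatrix.symmetric] at this
      exact hab this
  have h02 := step 0 2 (by decide)
  have h23 := step 2 3 (by decide)
  have h13 := step 1 3 (by decide)
  have h34 := step 3 4 (by decide)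
  have h45 := step 4 5 (by decide)
  have h56 := step 5 6 (by decide)
  have hall : ∀ i : Fin 7, i ∈ J ↔ (3 : Fin 7) ∈ J := by
    intro i
    fin_cases i
    · exact h02.trans h23
    · exact h13
    · exact h23
    · exact Iff.rfl
    · exact h34.symm
    · exact h45.symm.trans h34.symm
    · exact h56.symm.trans (h45.symm.trans h34.symm)
  obtain ⟨i, hi⟩ := hJ
  apply hJ'
  ext k
  exact ⟨fun _ => trivial, fun _ => (hall k).2 ((hall i).1 hi)⟩

section group

variable {K : Type} [Field K] [Fintype K] {r f : ℕ}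

/-- the stabiliser of a generic character -/
theorem card_le_E7 (hr : r.Prime) (hK : Fintype.card K = r ^ f) [CharP K r] {θ : ↥(chevE7.group K) → ℂ}
    (hcl : ∀ s t, θ (t * s * t⁻¹) = θ s)
    (hgen : ∀ (β : MulAut ↥(chevE7.group K)) (τ : K ≃+* K),
      Tau (TT chevE7 K) (XX chevE7 7 K) (ch (K := K) hpE7) (cartanOf chevE7 7) β 1 τ → τ ≠ 1 → ∃ y, θ (β y) ≠ θ y) :
    Nat.card (stab θ) ≤ 2 * Nat.card (MulAut.conj (G := ↥(chevE7.group K))).range := by
  have : Fact r.Prime := ⟨hr⟩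
  have := finite_group (K := K) chevE7
  have hW : Finite CoxeterMatrix.E₇.Group := finite_W hpE7 CoxeterMatrix.E₇.toCoxeterSystem
  have R := rgd (K := K) hpE7 CoxeterMatrix.E₇.toCoxeterSystem r
  have hG1 : RGD.Sup (XX chevE7 7 K) {x | IsRoot CoxeterMatrix.E₇.toCoxeterSystem hpE7.isCartan x} = ⊤ :=
    G1_eq_top hpE7 CoxeterMatrix.E₇.toCoxeterSystem
  have C := coords (K := K) hpE7 CoxeterMatrix.E₇.toCoxeterSystem r
  have H := coroots (K := K) hpE7 CoxeterMatrix.E₇.toCoxeterSystem r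
  obtain ⟨l, hl1, hl2, hl3⟩ := exists_outHom R hG1 C H conn_E7 fun σ hσ => cartan_of_laced hpE7.isCartan laced_E7 hσ
  have hsym : ∀ α, (l α).1 = 1 := by
    intro α
    obtain ⟨y, β, -, B⟩ := hl2 α
    exact sym_E7 (B.diag.matrix (R := R))
  -- the field part
  let L : MulAut ↥(chevE7.group K) →* (K ≃+* K) := (MonoidHom.snd _ _).comp l
  have hLs : Function.Surjective L := by
    intro τ
    obtain ⟨α, hα⟩ := exists_field_tau (K := K) hpE7 CoxeterMatrix.E₇.toCoxeterSystem r τ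
    exact ⟨α, by change (l α).2 = τ; rw [hl3 _ _ _ hα]⟩
  have hle : stab θ ≤ L.ker := by
    intro α hα
    rw [MonoidHom.mem_ker]
    by_contra hne
    obtain ⟨y, β, e, B⟩ := hl2 α
    rw [hsym] at B
    obtain ⟨z, hz⟩ := hgen β _ B hne
    apply hz
    have h1 := hα z
    rw [e, MulAut.mul_apply, MulAut.conj_apply, hcl] at h1
    exact h1
  -- the orders
  have hf : 1 ≤ f := H70.OutE.pos_of_card hK
  have hRA : Nat.card (K ≃+* K) = f := Cfsg.Agent.Lib.FieldAutCard.card_ringAut hf hK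
  have hker : Nat.card L.ker * f = Nat.card (MulAut ↥(chevE7.group K)) := by
    rw [← hRA, ← Nat.card_congr (QuotientGroup.quotientKerEquivOfSurjective L hLs).toEquiv]
    rw [mul_comm]
    exact (Subgroup.card_eq_card_quotient_mul_card_subgroup L.ker).symm
  have hout : Nat.card (Out ↥(chevE7.group K)) = Nat.gcd 2 (r ^ f - 1) * f := H70.OutE.card_out_E7 hK
  have hAut : Nat.card (Out ↥(chevE7.group K)) * Nat.card (Inn ↥(chevE7.group K)) =
      Nat.card (MulAut ↥(chevE7.group K)) := (Subgroup.card_eq_card_quotient_mul_card_subgroup _).symm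
  have hgcd : Nat.gcd 2 (r ^ f - 1) ≤ 2 := Nat.gcd_le_left _ (by norm_num)
  have h1 : Nat.card L.ker * f ≤ (2 * Nat.card (Inn ↥(chevE7.group K))) * f := by
    rw [hker, ← hAut, hout]
    calc Nat.gcd 2 (r ^ f - 1) * f * Nat.card (Inn ↥(chevE7.group K)) =
        Nat.gcd 2 (r ^ f - 1) * (Nat.card (Inn ↥(chevE7.group K)) * f) := by ring
      _ ≤ 2 * (Nat.card (Inn ↥(chevE7.group K)) * f) := Nat.mul_le_mul_right _ hgcd
      _ = _ := by ring
  have h2 := Nat.le_of_mul_le_mul_right h1 hf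
  exact (Nat.card_le_card_of_injective (Subgroup.inclusion hle) (Subgroup.inclusion_injective hle)).trans h2

/-- the generic case -/
theorem hasExt_group_E7 (hr : r.Prime) (hf : f ≠ 0) (hK : Fintype.card K = r ^ f) [CharP K r] (hq4 : r ^ f ≠ 4)
    [IsSimpleGroup ↥(chevE7.group K)] (hna : ¬ IsMulCommutative ↥(chevE7.group K)) {p : ℕ} (hp : p.Prime)
    (hd : p ∣ Nat.card ↥(chevE7.group K)) (hpr : p ≠ r) : HasExt p ↥(chevE7.group K) := by
  have : Fact r.Prime := ⟨hr⟩
  have := finite_group (K := K) chevE7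
  have D := data_E7_3 hr hf hK
  have C := coords (K := K) hpE7 CoxeterMatrix.E₇.toCoxeterSystem r
  have H := coroots (K := K) hpE7 CoxeterMatrix.E₇.toCoxeterSystem r
  have h1 := in_node D 1 3 (by decide +kernel)
  have h3 : In hpE7.isCartan (XX chevE7 7 K) {4, 5, 6} := by
    rw [← range_k7]; exact in_chain D (by norm_num) k7 hk7
  obtain ⟨θ, hθ, ⟨N, hN, hdiv⟩, hgen⟩ := exists_generic hr (two_le hr hf) hq4 D (K' := {1} ∪ {4, 5, 6}) compl7
    (by
      intro i hi i' hi'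
      exact or7a i (by simpa using hi) i' (by simpa using hi'))
    (by decide +kernel) (by decide +kernel) (by decide +kernel) un7 rfl
    (In.union D h1 h3 (by
      intro i hi i' hi'
      exact or7b i (by simpa using hi) i' (by simpa using hi'))) C H
  refine ⟨θ, hθ, ?_, ?_⟩
  · have h2 : charDegree θ = N := by
      have h4 := Cfsg.Agent.H669.Basic.charDegree_eq hθ
      rw [hN] at h4
      exact_mod_cast h4.symm
    rw [h2]
    exact hdiv p hp hd hpr
  · have hZ := H576.Ext.center_eq_bot hna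
    have hI := H576.Ext.range_le_stab (Core.isIrr_isClassFunction hθ)
    exact H576.Ext.extTo_of_cyc hZ hθ hI le_rfl (cyc_of_card_le hI
      (card_le_E7 hr hK (fun s t => Core.isIrr_isClassFunction hθ s t) hgen))

end group

/-- **`E₇(q)`.** -/
theorem hasExt_E7 {S : Type u} [Group S] [Finite S] [IsSimpleGroup S] (hna : ¬ IsMulCommutative S) (h : Lie.IsoE7 S)
    {p : ℕ} [hp : Fact p.Prime] (hd : p ∣ Nat.card S) : HasExt p S := by
  have h' := h
  obtain ⟨F, _, _, ⟨e⟩⟩ := h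
  obtain ⟨r, f, hr, hf, hF, hch⟩ := exists_prime_pow F
  by_cases hpr : p = r
  · subst hpr
    refine hasExt_char ?_ hd
    unfold IsLieTypeChar
    right; right; right; right; right; right; left
    exact ⟨F, inferInstance, inferInstance, hch, Or.inr (Or.inr (Or.inr (Or.inl ⟨e⟩)))⟩
  by_cases hq4 : r ^ f = 4
  · have hr2 : r = 2 := by
      have h1 : r ∣ 2 ^ 2 := by
        rw [show (2 : ℕ) ^ 2 = 4 from rfl, ← hq4]
        exact dvd_pow_self r hf
      exact (Nat.prime_dvd_prime_iff_eq hr Nat.prime_two).1 (hr.dvd_of_dvd_pow h1)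
    refine hasExt_of_sylCyc hna (H55.Ext.sylCyc_of_equiv e (H55.Ext.out_e7 hr hF (Or.inl hr2))) ?_
    exact im_E7 S h' inferInstance hd
  · have := simple_congr e (inferInstance : IsSimpleGroup S)
    have hna' : ¬ IsMulCommutative ↥(chevE7.group F) := by
      intro hc
      apply hna
      refine ⟨⟨fun x y => e.injective ?_⟩⟩
      rw [map_mul, map_mul]
      exact hc.is_comm.comm _ _
    refine HasExt.of_equiv' e (hasExt_group_E7 hr hf hF hq4 hna' hp.out ?_ hpr)
    rwa [← Nat.card_congr e.toEquiv]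

end Cfsg.Agent.H728.Ext
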