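import Cfsg.Agent.H53.HC.Gal

/-!
# Cuspidal characters of `SL_3(F)` are not invariant under field automorphisms (helper728, S4832, EXT-E7)

`F` finite, `|F| ≠ 4`, `[L : F] = 3`, `Θ = powTheta θ (q - 1)` with `θ : L →*₀ ℂ` injective, `η` an irreducible
constituent of the restriction of `psi L Θ` to `SL_3(F)`:

* `not_dir` : `η` is not invariant under `x ↦ C x^τ C⁻¹`, `τ ≠ 1`.
-/

set_option autoImplicit false
set_option linter.unusedSectionVars false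

open Polynomial Cfsg
open scoped ComplexConjugate

namespace Cfsg.Agent.H728.Ext

/-- the inequality -/
theorem ineq {q P : ℤ} (hq : 2 ≤ q) (hq4 : q ≠ 4) (hP : 1 < P) (hPq : P ^ 2 ≤ q ^ 3)
    (hd : q ^ 2 + q + 1 ∣ 3 * (P - 1)) : False := by
  have h1 : q ^ 2 + q + 1 ≤ 3 * (P - 1) := Int.le_of_dvd (by linarith) hd
  have h2 : 0 ≤ q ^ 2 + q + 4 := by positivity
  have h3 : (q ^ 2 + q + 4) ^ 2 ≤ (3 * P) ^ 2 := pow_le_pow_left₀ h2 (by linarith) 2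
  have h4 : (q ^ 2 + q + 4) ^ 2 ≤ 9 * q ^ 3 := by nlinarith
  have h5 : (q - 4) ^ 2 * (q ^ 2 + q + 1) = q ^ 4 - 7 * q ^ 3 + 9 * q ^ 2 + 8 * q + 16 := by ring
  have h6 : 0 < (q - 4) ^ 2 * (q ^ 2 + q + 1) := by
    have : q - 4 ≠ 0 := sub_ne_zero.2 hq4
    positivity
  have h7 : (q ^ 2 + q + 4) ^ 2 - 9 * q ^ 3 = q ^ 4 - 7 * q ^ 3 + 9 * q ^ 2 + 8 * q + 16 := by ring
  linarith

/-- `q² + q + 1` does not divide `3 (pᵉ - 1)` unless `f ∣ e` -/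
theorem dvd_of_pow {p f : ℕ} (hp : 2 ≤ p) (hf : 0 < f) (hq4 : p ^ f ≠ 4) (e : ℕ)
    (hd : ((p : ℤ) ^ f) ^ 2 + (p : ℤ) ^ f + 1 ∣ 3 * ((p : ℤ) ^ e - 1)) : f ∣ e := by
  set q : ℤ := (p : ℤ) ^ f with hq
  have hp' : (2 : ℤ) ≤ p := by exact_mod_cast hp
  have hq2 : 2 ≤ q := by
    rw [hq]
    calc (2 : ℤ) ≤ p := hp'
      _ = (p : ℤ) ^ 1 := (pow_one _).symm
      _ ≤ (p : ℤ) ^ f := pow_le_pow_right₀ (by linarith) hf
  have hq4' : q ≠ 4 := by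
    rw [hq]
    exact_mod_cast hq4
  have h3 : q ^ 2 + q + 1 ∣ (p : ℤ) ^ (3 * f) - 1 := by
    rw [mul_comm, pow_mul, ← hq]
    exact ⟨q - 1, by ring⟩
  -- small exponents
  have hsmall : ∀ e : ℕ, 2 * e ≤ 3 * f → q ^ 2 + q + 1 ∣ 3 * ((p : ℤ) ^ e - 1) → e = 0 := by
    intro e he hd
    by_contra h0
    refine ineq hq2 hq4' ?_ ?_ hd
    · exact one_lt_pow₀ (by linarith) h0
    · rw [hq, ← pow_mul, ← pow_mul]
      exact pow_le_pow_right₀ (by linarith) (by omega)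
  -- reduction modulo `3 f`
  have hred : ∀ e r k : ℕ, e = 3 * f * k + r → q ^ 2 + q + 1 ∣ 3 * ((p : ℤ) ^ e - 1) →
      q ^ 2 + q + 1 ∣ 3 * ((p : ℤ) ^ r - 1) := by
    intro e r k he hd
    have h4 : q ^ 2 + q + 1 ∣ (p : ℤ) ^ (3 * f * k) - 1 := by
      rw [pow_mul]
      exact h3.trans (by simpa using sub_dvd_pow_sub_pow ((p : ℤ) ^ (3 * f)) 1 k)
    have h5 : 3 * ((p : ℤ) ^ r - 1) = 3 * ((p : ℤ) ^ e - 1) - 3 * (p : ℤ) ^ r * ((p : ℤ) ^ (3 * f * k) - 1) := by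
      rw [he, pow_add]
      ring
    rw [h5]
    exact dvd_sub hd (h4.mul_left _)
  have hr := hred e (e % (3 * f)) (e / (3 * f)) (Nat.div_add_mod e (3 * f)).symm hd
  have hlt : e % (3 * f) < 3 * f := Nat.mod_lt _ (by omega)
  rcases Nat.lt_or_ge (3 * f) (2 * (e % (3 * f))) with h6 | h6
  · -- the complement
    have h7 : q ^ 2 + q + 1 ∣ 3 * ((p : ℤ) ^ (3 * f - e % (3 * f)) - 1) := by
      have h8 : (p : ℤ) ^ (3 * f) = (p : ℤ) ^ (3 * f - e % (3 * f)) * (p : ℤ) ^ (e % (3 * f)) := by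
        rw [← pow_add]
        congr 1
        omega
      have h9 : 3 * ((p : ℤ) ^ (3 * f - e % (3 * f)) - 1) =
          3 * ((p : ℤ) ^ (3 * f) - 1) - (p : ℤ) ^ (3 * f - e % (3 * f)) * (3 * ((p : ℤ) ^ (e % (3 * f)) - 1)) := by
        rw [h8]
        ring
      rw [h9]
      exact dvd_sub (h3.mul_left _) (hr.mul_left _)
    have := hsmall _ (by omega) h7
    omega
  · have := hsmall _ h6 hr
    exact (Dvd.intro_left 3 rfl).trans (Nat.dvd_of_mod_eq_zero this)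

/-- the arithmetic of the field automorphisms -/
theorem ns_dir {p f : ℕ} (hp : 2 ≤ p) (hf : 0 < f) (hq4 : p ^ f ≠ 4) {i j : ℕ} (hi : i < 3)
    (hd : ((p : ℤ) ^ f) ^ 2 + (p : ℤ) ^ f + 1 ∣ ((p : ℤ) ^ f - 1) * ((p : ℤ) ^ j - ((p : ℤ) ^ f) ^ i)) : f ∣ j := by
  set q : ℤ := (p : ℤ) ^ f with hq
  have h1 : q ^ 2 + q + 1 ∣ 3 * ((p : ℤ) ^ j - q ^ i) := by
    have h2 : 3 * ((p : ℤ) ^ j - q ^ i) = (q ^ 2 + q + 1) * ((p : ℤ) ^ j - q ^ i) -
        (q + 2) * ((q - 1) * ((p : ℤ) ^ j - q ^ i)) := by ring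
    rw [h2]
    exact dvd_sub (Dvd.intro _ rfl) (hd.mul_left _)
  have h3 : q ^ 2 + q + 1 ∣ 3 * ((p : ℤ) ^ (j + f * (3 - i)) - 1) := by
    have h4 : (p : ℤ) ^ (j + f * (3 - i)) = (p : ℤ) ^ j * q ^ (3 - i) := by rw [pow_add, pow_mul]
    have h5 : q ^ i * q ^ (3 - i) = q ^ 3 := by rw [← pow_add]; congr 1; omega
    have h6 : 3 * ((p : ℤ) ^ (j + f * (3 - i)) - 1) = q ^ (3 - i) * (3 * ((p : ℤ) ^ j - q ^ i)) +
        3 * (q - 1) * (q ^ 2 + q + 1) := by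
      rw [h4]
      have h7 : q ^ (3 - i) * (3 * ((p : ℤ) ^ j - q ^ i)) = 3 * ((p : ℤ) ^ j * q ^ (3 - i)) -
        3 * (q ^ i * q ^ (3 - i)) := by ring
      rw [h7, h5]
      ring
    rw [h6]
    exact dvd_add (h1.mul_left _) (Dvd.intro_left _ rfl)
  have h4 := dvd_of_pow hp hf hq4 _ h3
  exact (Nat.dvd_add_left (Dvd.intro _ rfl)).1 h4

open Cfsg.Agent.H139.Cusp Cfsg.Agent.Characters Cfsg.Agent.H53.HC.Gal Matrix

universe u w

variable {F : Type u} [Field F] [Finite F] {L : Type w} [Field L] [Finite L] [Algebra F L]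
  {θ : L →*₀ ℂ} (hθ : Function.Injective θ)

include hθ

theorem frob_of_common (hn : Module.finrank F L = 3) {p : ℕ} [Fact p.Prime] [CharP F p] {σ : L ≃+* L} {j : ℕ}
    (hσ : ∀ x, σ x = x ^ p ^ j) (hq0 : Nat.card F - 1 ≠ 0) (hq4 : Nat.card F ≠ 4) {Θ' : L →*₀ ℂ}
    (hΘ' : ∀ x, Θ' x = powTheta θ (Nat.card F - 1) hq0 (σ x))
    [Fintype (SpecialLinearGroup (Fin 3) F)]
    (h : classInner (psi (n := 3) (F := F) L (powTheta θ (Nat.card F - 1) hq0) ∘ SpecialLinearGroup.toGL)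
      (psi L Θ' ∘ SpecialLinearGroup.toGL) ≠ 0) : ∀ x : F, x ^ p ^ j = x := by
  have hp : p.Prime := Fact.out
  have : Fintype F := Fintype.ofFinite F
  obtain ⟨i, hi3, hi⟩ := exists_frob_eq hn _ _ h
  obtain ⟨f, hf⟩ : ∃ f : ℕ+, Fintype.card F = p ^ (f : ℕ) := by
    obtain ⟨f, -, hf⟩ := FiniteField.card F p
    exact ⟨f, hf⟩
  have hq : Nat.card F = p ^ (f : ℕ) := by rw [Nat.card_eq_fintype_card, hf]
  have hq2 : 2 ≤ Nat.card F := Finite.one_lt_card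
  obtain ⟨γ, hγ⟩ := IsCyclic.exists_ofOrder_eq_natCard (α := Lˣ)
  set q := Nat.card F with hqd
  -- the norm of `γ ^ (q - 1)`
  have hnorm : Algebra.norm F ((γ : L) ^ (q - 1)) = 1 := by
    rw [map_pow]
    have h1 : Algebra.norm F (γ : L) ≠ 0 := by
      rw [Ne, Algebra.norm_eq_zero_iff]
      exact γ.ne_zero
    have h3 : (Units.mk0 _ h1) ^ (q - 1) = 1 := by
      rw [hqd, ← Nat.card_units]
      exact pow_card_eq_one'
    exact congrArg Units.val h3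
  have h1 := hi _ hnorm
  rw [hΘ', powTheta_apply, powTheta_apply, hσ, ← map_pow θ, ← map_pow θ] at h1
  have h2 := hθ h1
  have h3 : γ ^ ((q - 1) * p ^ j * (q - 1)) = γ ^ ((q - 1) * q ^ i * (q - 1)) := by
    apply Units.ext
    rw [Units.val_pow_eq_pow_val, Units.val_pow_eq_pow_val, pow_mul, pow_mul, pow_mul _ ((q - 1) * q ^ i),
      pow_mul _ (q - 1) (q ^ i)]
    exact h2
  rw [pow_eq_pow_iff_modEq, hγ, Nat.card_units, Module.natCard_eq_pow_finrank (K := F), hn, ← hqd] at h3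
  have h4 := (Nat.modEq_iff_dvd.1 h3.symm)
  have hqz : ((q - 1 : ℕ) : ℤ) = (q : ℤ) - 1 := by
    rw [Nat.cast_sub (by omega)]; simp
  have hqz3 : ((q ^ 3 - 1 : ℕ) : ℤ) = ((q : ℤ) - 1) * ((q : ℤ) ^ 2 + q + 1) := by
    rw [Nat.cast_sub (Nat.one_le_pow _ _ (by omega))]
    push_cast
    ring
  rw [hqz3] at h4
  push_cast at h4
  rw [hqz] at h4
  have h5 : ((q : ℤ) - 1) * p ^ j * (q - 1) - (q - 1) * q ^ i * (q - 1) =
      ((q : ℤ) - 1) * ((q - 1) * (p ^ j - q ^ i)) := by ring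
  rw [h5] at h4
  have h6 : (q : ℤ) ^ 2 + q + 1 ∣ (q - 1) * ((p : ℤ) ^ j - (q : ℤ) ^ i) := by
    refine Int.dvd_of_mul_dvd_mul_left ?_ h4
    have : (2 : ℤ) ≤ q := by exact_mod_cast hq2
    omega
  rw [hq] at h6
  push_cast at h6
  obtain ⟨m, hm⟩ := ns_dir (f := (f : ℕ)) hp.two_le f.2 (by rw [← hq]; exact hq4) hi3 h6
  intro x
  rw [hm, pow_mul, ← hf]
  exact FiniteField.pow_card_pow m x

/-- **No invariance under field automorphisms.** -/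
theorem not_dir (hn : Module.finrank F L = 3) (hq0 : Nat.card F - 1 ≠ 0) (hq4 : Nat.card F ≠ 4)
    {η : SpecialLinearGroup (Fin 3) F → ℂ} (hη : IsIrrCharacter _ η)
    (hc : IsCharacter _ (psi (n := 3) (F := F) L (powTheta θ (Nat.card F - 1) hq0) ∘ SpecialLinearGroup.toGL - η))
    (τ : F ≃+* F) (hτ : τ ≠ 1) (C : GL (Fin 3) F) (α : SpecialLinearGroup (Fin 3) F →* SpecialLinearGroup (Fin 3) F)
    (hα : ∀ x, (α x : Matrix (Fin 3) (Fin 3) F) =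
      C * (x : Matrix (Fin 3) (Fin 3) F).map τ * ((C⁻¹ : GL (Fin 3) F) : Matrix (Fin 3) (Fin 3) F)) :
    η ∘ α ≠ η := by
  classical
  intro hinv
  have : Fintype F := Fintype.ofFinite F
  obtain ⟨p, hp'⟩ := CharP.exists F
  have : Fact p.Prime := ⟨CharP.char_is_prime F p⟩
  obtain ⟨j, hj⟩ := exists_frob_pow (p := p) τ
  obtain ⟨σ, hσ, hστ⟩ := exists_ext (L := L) hj
  set Θ := powTheta θ (Nat.card F - 1) hq0 with hΘ
  let Θ₁ : L →*₀ ℂ := Θ.comp (σ : L →+* L).toMonoidWithZeroHom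
  have hΘ₁ : ∀ x, Θ (σ x) = Θ₁ x := fun x => rfl
  apply hτ
  ext x
  rw [hj]
  refine frob_of_common hθ hn hσ hq0 hq4 (Θ' := Θ₁) (fun x => rfl) (inner_ne_zero hη hc ?_) x
  have h1 : ∀ x, psi L Θ (SpecialLinearGroup.toGL (α x)) = psi L Θ₁ (SpecialLinearGroup.toGL x) := by
    intro x
    have h2 : psi L Θ (SpecialLinearGroup.toGL (α x)) = cuspMat L Θ ((x : Matrix (Fin 3) (Fin 3) F).map τ) := by
      let T : SpecialLinearGroup (Fin 3) F := ⟨(x : Matrix (Fin 3) (Fin 3) F).map τ, by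
          have h3 : ((x : Matrix (Fin 3) (Fin 3) F).map τ).det = τ ((x : Matrix (Fin 3) (Fin 3) F).det) :=
            (RingHom.map_det (τ : F →+* F) _).symm
          rw [h3, x.2, map_one]⟩
      have h4 : ((C * SpecialLinearGroup.toGL T * C⁻¹ : GL (Fin 3) F) : Matrix (Fin 3) (Fin 3) F) = (α x).1 := by
        rw [hα]; rfl
      have h5 := cuspMat_conj Θ C (SpecialLinearGroup.toGL T)
      rw [h4] at h5
      exact h5
    rw [h2, cuspMat_semilinear hn hστ hΘ₁]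
    rfl
  have h2 := Core.isCharacter_comp α hc
  have h3 : (psi (n := 3) (F := F) L Θ ∘ SpecialLinearGroup.toGL - η) ∘ α =
      psi L Θ₁ ∘ SpecialLinearGroup.toGL - η := by
    funext x
    change (psi L Θ ∘ SpecialLinearGroup.toGL) (α x) - (η ∘ α) x =
      psi L Θ₁ (SpecialLinearGroup.toGL x) - η x
    rw [hinv, ← h1]
    rfl
  rw [h3] at h2
  exact h2

end Cfsg.Agent.H728.Ext
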